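import Cfsg.Agent.H859.SylEleven
set_option linter.all false

/-!
# The two classes of elements of order 11 of the fourth Janko group (helper859)
-/

set_option autoImplicit false

open Cfsg

namespace Cfsg.Agent.H859.ClassEleven

open Cfsg.Agent.H859.NU (U) 
open Cfsg.Agent.H859.SylEleven

theorem k_pow (m : ℕ) : NU.k ^ m * NU.c * (NU.k ^ m)⁻¹ = NU.c ^ (6 ^ m) := by
  induction m with
  | zero => simp
  | succ m ih =>
    have h := NU.k_c
    rw [pow_zero, pow_zero, one_mul, one_mul] at h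
    have h1 : NU.k ^ (m + 1) * NU.c * (NU.k ^ (m + 1))⁻¹ =
        NU.k * (NU.k ^ m * NU.c * (NU.k ^ m)⁻¹) * NU.k⁻¹ := by
      rw [pow_succ']; group
    rw [h1, ih, ← conj_pow, h, ← pow_mul, ← pow_succ']

/-- the powers of `c` are conjugate -/
theorem isConj_c {z : Cfsg.Spor.J4} (hz : z ∈ Subgroup.zpowers NU.c) (h1 : z ≠ 1) :
    IsConj z NU.c := by
  have ho : orderOf NU.c = 11 := Heis.orderOf_w NU.rel
  classical
  obtain ⟨n, hn, rfl⟩ := Finset.mem_image.1 (mem_zpowers_iff_mem_range_orderOf.1 hz)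
  rw [ho, Finset.mem_range] at hn
  have hn0 : n ≠ 0 := by
    rintro rfl
    exact h1 (pow_zero _)
  have key : ∀ n : ℕ, n < 11 → n ≠ 0 → ∃ m < 10, n = 6 ^ m % 11 := by decide
  obtain ⟨m, -, hm⟩ := key n hn hn0
  rw [isConj_comm, isConj_iff]
  refine ⟨NU.k ^ m, ?_⟩
  rw [k_pow, hm, ← ho, pow_mod_orderOf]

theorem eleven_dvd_centralizer : 11 ^ 3 ≤ Nat.card (Subgroup.centralizer {NU.c} : Subgroup Cfsg.Spor.J4) := by
  rw [← NU.card_U]
  exact Nat.card_le_card_of_injective _
    (Subgroup.inclusion_injective (U_le_centralizer (Subgroup.mem_zpowers NU.c)))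

theorem card_centralizer_conj {G : Type*} [Group G] {a b : G} (h : IsConj a b) :
    Nat.card (Subgroup.centralizer {a}) = Nat.card (Subgroup.centralizer {b}) := by
  obtain ⟨g, hg⟩ := isConj_iff.1 h
  have h2 : (Subgroup.centralizer {a}).map (MulAut.conj g).toMonoidHom =
      Subgroup.centralizer {b} := by
    ext y
    constructor
    · rintro ⟨z, hz, rfl⟩
      have hz' := Subgroup.mem_centralizer_singleton_iff.1 hz
      rw [Subgroup.mem_centralizer_singleton_iff]
      show g * z * g⁻¹ * b = b * (g * z * g⁻¹)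
      rw [← hg]
      calc g * z * g⁻¹ * (g * a * g⁻¹) = g * (z * a) * g⁻¹ := by group
        _ = g * a * g⁻¹ * (g * z * g⁻¹) := by rw [hz']; group
    · intro hy
      have hy' := Subgroup.mem_centralizer_singleton_iff.1 hy
      rw [← hg] at hy'
      refine ⟨g⁻¹ * y * g, Subgroup.mem_centralizer_singleton_iff.2 ?_, ?_⟩
      · calc g⁻¹ * y * g * a = g⁻¹ * (y * (g * a * g⁻¹)) * g := by group
          _ = a * (g⁻¹ * y * g) := by rw [hy']; group
      · show g * (g⁻¹ * y * g) * g⁻¹ = y
        group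
  rw [← h2]
  exact Nat.card_congr ((Subgroup.centralizer {a}).equivMapOfInjective
    (MulAut.conj g).toMonoidHom (MulAut.conj g).injective).toEquiv

theorem not_isConj : ¬ IsConj x NU.c := by
  intro h
  have h1 := card_centralizer_conj h
  have h2 := card_centralizer_x
  have h3 := eleven_dvd_centralizer
  omega

/-- **an element of order 11 is conjugate to `x` or to `c`** -/
theorem isConj_or {w : Cfsg.Spor.J4} (hw : orderOf w = 11) : IsConj w x ∨ IsConj w NU.c := by
  obtain ⟨g, hg⟩ := exists_conj_mem isPGroup_U not_dvd_U (g := w)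
    ⟨1, by rw [pow_one, ← hw, pow_orderOf_eq_one]⟩
  have h1 : IsConj w (g * w * g⁻¹) := isConj_iff.2 ⟨g, rfl⟩
  have hne : g * w * g⁻¹ ≠ 1 := by
    intro h
    have h2 : w = 1 := by
      have h3 : w = g⁻¹ * (g * w * g⁻¹) * g := by group
      rw [h3, h]; group
    rw [h2, orderOf_one] at hw
    exact absurd hw (by norm_num)
  by_cases h : g * w * g⁻¹ ∈ Subgroup.zpowers NU.c
  · right
    exact h1.trans (isConj_c h hne)
  · left
    have h2 : g * w * g⁻¹ ∈ orb N x := by
      rw [orb_eq]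
      exact ⟨hg, h⟩
    obtain ⟨n, -, hn⟩ := h2
    exact h1.trans (isConj_comm.1 (isConj_iff.2 ⟨n, hn.symm⟩))

theorem orderOf_x : orderOf x = 11 := by
  apply orderOf_eq_prime (Heis.pow_p NU.rel (by norm_num) x_mem)
  intro h
  apply x_notMem
  rw [h]
  exact Subgroup.one_mem _

theorem orderOf_c : orderOf NU.c = 11 := Heis.orderOf_w NU.rel

end Cfsg.Agent.H859.ClassEleven
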