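import Cfsg.Agent.J4.Lower
import Cfsg.Agent.S1703
import Cfsg.Agent.H859.PGLPres
set_option linter.all false

/-!
# A subgroup `PGL₂(23)` of the presented fourth Janko group (helper859)

Explicit words `u` (of order 23), `h` (of order 22), `w` in the generators `x, y, t`; the relations are checked in the
112-dimensional representation over the field with two elements.
-/

set_option autoImplicit false

namespace Cfsg.Agent.H859.PGLWords

open Cfsg.Agent.Lib.F2MatGroup Cfsg.Agent.J4.Rep112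

/-- The 112-dimensional representation is faithful. -/
theorem rho_injective : Function.Injective rho := by
  have hs : IsSimpleGroup Cfsg.Spor.J4 := Cfsg.Agent.S1703.result.1
  rw [← MonoidHom.ker_eq_bot_iff]
  rcases (inferInstance : rho.ker.Normal).eq_bot_or_eq_top with h | h
  · exact h
  · exfalso
    apply Cfsg.Agent.J4.Lower.xg_ne
    have h1 : x ∈ rho.ker := by
      rw [h]
      exact Subgroup.mem_top x
    exact h1

/-- relations between words in `x, y, y⁻¹, t` from one kernel computation -/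
theorem check_J4 {ws : List (List ℕ)} {es ns : List (List ℕ × List ℕ)} (hc : check 112 codes ws es ns = true) :
    (∀ p ∈ es, evG (runG ws gens) p.1 = evG (runG ws gens) p.2) ∧
      (∀ p ∈ ns, evG (runG ws gens) p.1 ≠ evG (runG ws gens) p.2) := by
  obtain ⟨h1, h2⟩ := check_sound (by norm_num) codes_gens hc
  refine ⟨fun p hp => ?_, fun p hp h => ?_⟩
  · have h3 := h1 p hp
    rw [runG_map, evG_map, evG_map] at h3
    exact rho_injective h3
  · apply h2 p hp
    rw [runG_map, evG_map, evG_map, h]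

/-- program computing w, d, h, F, u, e, c (newest first) from x, y, y⁻¹, t -/
def slp : List (List ℕ) := [
  [2, 0, 1, 0, 2, 0, 2, 0, 2, 0, 2, 3, 1, 0, 1, 0, 1, 0, 1, 0, 2, 0],
  [0, 0, 0],
  [2, 3],
  [3, 4, 3, 5, 3, 4, 3, 5, 3, 4, 3, 1, 3, 5, 3, 4, 3, 5, 3, 4, 3, 5, 3],
  [0, 5, 4, 5, 4, 6, 4, 5, 4, 6, 4, 5, 4, 5, 4, 6, 4, 6, 4, 6, 4, 5, 4, 6, 4, 6, 4, 6, 4, 5, 4, 5, 4, 6, 4, 6, 4, 7, 4, 5, 4, 5, 4, 5, 7, 5, 4, 7, 5, 4, 6, 4, 5, 2, 4, 6, 4, 2, 6, 4, 5, 4, 5, 4, 2, 5, 4, 2, 6, 4, 2, 5, 4, 5, 4, 6],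
  [7, 5, 6, 5, 3, 5, 7, 5, 6, 6, 5, 6, 5, 6, 5, 6, 5, 3, 5, 7, 5, 7, 5, 7, 5, 7],
  [6, 8, 6, 8, 6, 7, 6, 8, 6, 8, 6, 8, 6, 8, 6, 7, 6, 8, 6, 8, 6, 7, 6, 8, 6, 7, 6, 7, 6, 8, 6, 7, 6, 7, 6, 7, 6, 7, 6, 8, 6, 7, 6, 7, 6, 0]]

/-- relations: `u²³ = 1`, `h²² = 1`, `h u = u¹⁹ h`, `w² = 1`, `(w h)² = 1`, `(w u)³ = 1` -/
def rels : List (List ℕ × List ℕ) := [
  (List.replicate 23 4, []),
  (List.replicate 22 2, []),
  ([2, 4], List.replicate 19 4 ++ [2]),
  ([0, 0], []),
  ([0, 2, 0, 2], []),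
  ([0, 4, 0, 4, 0, 4], [])]

/-- `u ≠ 1` -/
def nrels : List (List ℕ × List ℕ) := [([4], [])]

theorem check_slp : check 112 codes slp rels nrels = true := by decide +kernel

/-- the element of order 23 -/
noncomputable def u : Cfsg.Spor.J4 := getG (runG slp gens) 4
/-- the element of order 22 -/
noncomputable def h : Cfsg.Spor.J4 := getG (runG slp gens) 2
/-- the involution -/
noncomputable def w : Cfsg.Spor.J4 := getG (runG slp gens) 0

theorem evG_append {G : Type*} [Group G] (L : List G) (v w : List ℕ) : evG L (v ++ w) = evG L v * evG L w := by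
  induction v with
  | nil => rw [List.nil_append, evG_nil, one_mul]
  | cons i v ih => rw [List.cons_append, evG_cons, evG_cons, ih, mul_assoc]

theorem u_pow : u ^ 23 = 1 := by
  have := (check_J4 check_slp).1 (List.replicate 23 4, []) (by simp [rels])
  rwa [Cfsg.Agent.J4.Lower.evG_replicate, evG_nil] at this

theorem h_pow : h ^ 22 = 1 := by
  have := (check_J4 check_slp).1 (List.replicate 22 2, []) (by simp [rels])
  rwa [Cfsg.Agent.J4.Lower.evG_replicate, evG_nil] at this

theorem h_u : h * u = u ^ 19 * h := by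
  have := (check_J4 check_slp).1 ([2, 4], List.replicate 19 4 ++ [2]) (by simp [rels])
  simp only [evG_append, Cfsg.Agent.J4.Lower.evG_replicate, evG_cons, evG_nil, mul_one] at this
  exact this

theorem w_w : w * w = 1 := by
  have := (check_J4 check_slp).1 ([0, 0], []) (by simp [rels])
  simp only [evG_cons, evG_nil, mul_one] at this
  exact this

theorem w_h : w * h * w * h = 1 := by
  have := (check_J4 check_slp).1 ([0, 2, 0, 2], []) (by simp [rels])
  simp only [evG_cons, evG_nil, mul_one, ← mul_assoc] at this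
  exact this

theorem w_u : w * u * w * u * w * u = 1 := by
  have := (check_J4 check_slp).1 ([0, 4, 0, 4, 0, 4], []) (by simp [rels])
  simp only [evG_cons, evG_nil, mul_one, ← mul_assoc] at this
  exact this

theorem u_ne : u ≠ 1 := by
  have := (check_J4 check_slp).2 ([4], []) (by simp [nrels])
  simp only [evG_cons, evG_nil, mul_one] at this
  exact this

instance fact23 : Fact (Nat.Prime 23) := ⟨by norm_num⟩

/-- **`PGL₂(23)` in the fourth Janko group**, containing `u`, `h`, `w` -/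
theorem exists_pgl : ∃ L : Subgroup Cfsg.Spor.J4, u ∈ L ∧ h ∈ L ∧ w ∈ L ∧
    Nonempty (↥L ≃* GL (Fin 2) (ZMod 23) ⧸ Subgroup.center (GL (Fin 2) (ZMod 23))) := by
  refine PGLPres.exists_equiv u h w 19 ?_ (by decide) (by norm_num) u_pow h_pow h_u w_w w_h w_u u_ne
  intro a ha
  have key : ∀ a : ZMod 23, a ≠ 0 → ∃ n : Fin 22, a = ((19 : ℕ) : ZMod 23) ^ (n : ℕ) := by decide +kernel
  obtain ⟨n, hn⟩ := key a ha
  exact ⟨n, hn⟩

end Cfsg.Agent.H859.PGLWords
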